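import Mathlib

/-!
# Graded symmetric algebras: basic facts

`V` is a finite-dimensional subspace of a `K`-algebra `B`, `lam` a trace form, such that `V ^ n` and
`V ^ (m - n)` are dual with respect to `lam`.
-/

set_option autoImplicit false

namespace Cfsg.Agent.H591.Five

open Module

variable {K B : Type*} [Field K] [Ring B] [Algebra K B]

/-- A graded symmetric situation: `V` generates in degree one, the top degree is `m`. -/
structure Gr (V : Submodule K B) (lam : B →ₗ[K] K) (m : ℕ) : Prop where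
  fin : FiniteDimensional K V
  symm : ∀ a b, lam (a * b) = lam (b * a)
  nd : ∀ n, n ≤ m → ∀ b ∈ V ^ n, (∀ c ∈ V ^ (m - n), lam (b * c) = 0) → b = 0
  top : V ^ m ≠ ⊥
  four : 4 ≤ m

/-- The span of the commutators. -/
def cm (V W : Submodule K B) : Submodule K B :=
  Submodule.span K {z | ∃ x ∈ V, ∃ y ∈ W, z = x * y - y * x}

theorem cm_mem {V W : Submodule K B} {x y : B} (hx : x ∈ V) (hy : y ∈ W) :
    x * y - y * x ∈ cm V W := Submodule.subset_span ⟨x, hx, y, hy, rfl⟩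

variable {V : Submodule K B} {lam : B →ₗ[K] K} {m : ℕ}

theorem finite_pow (hV : FiniteDimensional K V) (n : ℕ) :
    FiniteDimensional K (V ^ n : Submodule K B) :=
  Module.Finite.of_fg (Submodule.FG.pow (Module.Finite.iff_fg.1 hV) n)

theorem mul_mem_sq {x y : B} (hx : x ∈ V) (hy : y ∈ V) : x * y ∈ V ^ 2 := by
  rw [pow_two]
  exact Submodule.mul_mem_mul hx hy

theorem Gr.eq_zero_right (h : Gr V lam m) {n : ℕ} (hn : n < m) {b : B} (hb : b ∈ V ^ n)
    (hz : ∀ v ∈ V, b * v = 0) : b = 0 := by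
  apply h.nd n hn.le b hb
  intro c hc
  obtain ⟨k, hk⟩ : ∃ k, m - n = k + 1 := ⟨m - n - 1, by omega⟩
  rw [hk, pow_succ'] at hc
  induction hc using Submodule.mul_induction_on' with
  | mem_mul_mem v hv c' hc' => rw [← mul_assoc, hz v hv, zero_mul, map_zero]
  | add x _ y _ hx hy => rw [mul_add, map_add, hx, hy, add_zero]

theorem Gr.eq_zero_left (h : Gr V lam m) {n : ℕ} (hn : n < m) {b : B} (hb : b ∈ V ^ n)
    (hz : ∀ v ∈ V, v * b = 0) : b = 0 := by
  apply h.nd n hn.le b hb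
  intro c hc
  rw [h.symm]
  obtain ⟨k, hk⟩ : ∃ k, m - n = k + 1 := ⟨m - n - 1, by omega⟩
  rw [hk, pow_succ] at hc
  induction hc using Submodule.mul_induction_on' with
  | mem_mul_mem c' hc' v hv => rw [mul_assoc, hz v hv, mul_zero, map_zero]
  | add x _ y _ hx hy => rw [add_mul, map_add, hx, hy, add_zero]

theorem Gr.eq_zero_right' (h : Gr V lam m) {b : B} (hb : b ∈ V)
    (hz : ∀ v ∈ V, b * v = 0) : b = 0 := by
  have := h.four
  exact h.eq_zero_right (n := 1) (by omega) (by rwa [pow_one]) hz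

theorem Gr.eq_zero_left' (h : Gr V lam m) {b : B} (hb : b ∈ V)
    (hz : ∀ v ∈ V, v * b = 0) : b = 0 := by
  have := h.four
  exact h.eq_zero_left (n := 1) (by omega) (by rwa [pow_one]) hz

theorem Gr.sq_ne_bot (h : Gr V lam m) : V ^ 2 ≠ ⊥ := by
  intro h2
  apply h.top
  have h4 := h.four
  obtain ⟨k, rfl⟩ := Nat.exists_eq_add_of_le (show 2 ≤ m by omega)
  rw [pow_add, h2, Submodule.bot_mul]

theorem Gr.finrank_le_top (h : Gr V lam m) :
    finrank K V ≤ finrank K (V ^ (m - 1) : Submodule K B) := by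
  have hfin := h.fin
  have hf2 := finite_pow hfin (m - 1)
  have h4 := h.four
  let f : V →ₗ[K] Module.Dual K (V ^ (m - 1) : Submodule K B) :=
    { toFun := fun v => lam ∘ₗ (LinearMap.mulLeft K (v : B)) ∘ₗ (V ^ (m - 1)).subtype
      map_add' := by
        intro v w
        ext c
        simp [add_mul]
      map_smul' := by
        intro a v
        ext c
        simp }
  have hf : Function.Injective f := by
    rw [← LinearMap.ker_eq_bot, LinearMap.ker_eq_bot']
    intro v hv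
    apply Subtype.ext
    apply h.nd 1 (by omega) (v : B) (by rw [pow_one]; exact v.2)
    intro c hc
    exact congrArg (fun g => g ⟨c, hc⟩) hv
  have := LinearMap.finrank_le_finrank_of_injective hf
  rwa [Subspace.dual_finrank_eq] at this

/-- Principle P. -/
theorem mul_pow_comm {x : B} (hP : ∀ a ∈ V ^ 2, ∃ v ∈ V, a = x * v) (hx : x ∈ V) (n : ℕ) :
    ∀ u ∈ V, ∃ u' ∈ V, u * x ^ n = x ^ n * u' := by
  induction n with
  | zero => exact fun u hu => ⟨u, hu, by simp⟩
  | succ n ih =>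
    intro u hu
    obtain ⟨u', hu', h1⟩ := ih u hu
    obtain ⟨u'', hu'', h2⟩ := hP _ (mul_mem_sq hu' hx)
    refine ⟨u'', hu'', ?_⟩
    rw [pow_succ, ← mul_assoc, h1, mul_assoc, h2, ← mul_assoc]

theorem pow_succ_eq {x : B} (hP : ∀ a ∈ V ^ 2, ∃ v ∈ V, a = x * v) (hx : x ∈ V) (n : ℕ) :
    ∀ a ∈ V ^ (n + 1), ∃ v ∈ V, a = x ^ n * v := by
  induction n with
  | zero => exact fun u hu => ⟨u, by rwa [zero_add, pow_one] at hu, by simp⟩
  | succ n ih =>
    intro a ha
    rw [pow_succ'] at ha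
    induction ha using Submodule.mul_induction_on' with
    | mem_mul_mem u hu b hb =>
      obtain ⟨v, hv, rfl⟩ := ih b hb
      obtain ⟨u', hu', h1⟩ := mul_pow_comm hP hx n u hu
      obtain ⟨w, hw, h2⟩ := hP _ (mul_mem_sq hu' hv)
      refine ⟨w, hw, ?_⟩
      rw [← mul_assoc, h1, mul_assoc, h2, pow_succ, mul_assoc]
    | add a _ b _ ha hb =>
      obtain ⟨v, hv, rfl⟩ := ha
      obtain ⟨w, hw, rfl⟩ := hb
      exact ⟨v + w, V.add_mem hv hw, by rw [mul_add]⟩

theorem Gr.inj_of_P (h : Gr V lam m) {x : B} (hP : ∀ a ∈ V ^ 2, ∃ v ∈ V, a = x * v)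
    (hx : x ∈ V) {v : B} (hv : v ∈ V) (h0 : x ^ (m - 2) * v = 0) : v = 0 := by
  have hfin := h.fin
  have h4 := h.four
  have hf2 := finite_pow hfin (m - 1)
  -- the map `v ↦ x ^ (m - 2) * v` from `V` onto `V ^ (m - 1)`
  set W : Submodule K B := V.map (LinearMap.mulLeft K (x ^ (m - 2))) with hW
  have h1 : V ^ (m - 1) ≤ W := by
    intro a ha
    obtain ⟨w, hw, rfl⟩ := pow_succ_eq hP hx (m - 2) a (by
      rwa [show m - 2 + 1 = m - 1 by omega])
    exact ⟨w, hw, rfl⟩
  have h2 := h.finrank_le_top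
  have h3 : finrank K (V ^ (m - 1) : Submodule K B) ≤ finrank K W := Submodule.finrank_mono h1
  let g : V →ₗ[K] B := (LinearMap.mulLeft K (x ^ (m - 2))) ∘ₗ V.subtype
  have hg : LinearMap.range g = W := by
    rw [LinearMap.range_comp, Submodule.range_subtype]
  have h5 := LinearMap.finrank_range_add_finrank_ker g
  rw [hg] at h5
  have h6 : finrank K (LinearMap.ker g) = 0 := by omega
  have h7 : LinearMap.ker g = ⊥ := Submodule.finrank_eq_zero.1 h6
  have h8 : (⟨v, hv⟩ : V) ∈ LinearMap.ker g := by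
    rw [LinearMap.mem_ker]
    exact h0
  rw [h7, Submodule.mem_bot] at h8
  exact congrArg Subtype.val h8

theorem Gr.inj_of_P' (h : Gr V lam m) {x : B} (hP : ∀ a ∈ V ^ 2, ∃ v ∈ V, a = x * v)
    (hx : x ∈ V) {n : ℕ} (hn : n ≤ m - 2) {v : B} (hv : v ∈ V) (h0 : x ^ n * v = 0) : v = 0 := by
  apply h.inj_of_P hP hx hv
  obtain ⟨k, hk⟩ := Nat.exists_eq_add_of_le hn
  rw [hk, add_comm, pow_add, mul_assoc, h0, mul_zero]

theorem Gr.finrank_sq_ge (h : Gr V lam m) {x : B} (hP : ∀ a ∈ V ^ 2, ∃ v ∈ V, a = x * v)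
    (hx : x ∈ V) : finrank K V ≤ finrank K (V ^ 2 : Submodule K B) := by
  have hfin := h.fin
  have h4 := h.four
  have hf2 := finite_pow hfin 2
  let g : V →ₗ[K] (V ^ 2 : Submodule K B) :=
    ((LinearMap.mulLeft K x) ∘ₗ V.subtype).codRestrict (V ^ 2) fun v => mul_mem_sq hx v.2
  apply LinearMap.finrank_le_finrank_of_injective (f := g)
  rw [← LinearMap.ker_eq_bot, LinearMap.ker_eq_bot']
  intro v hv
  apply Subtype.ext
  apply h.inj_of_P' hP hx (n := 1) (by omega) v.2
  rw [pow_one]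
  exact congrArg Subtype.val hv

theorem Gr.right_inj_of_P (h : Gr V lam m) {x : B} (hP : ∀ a ∈ V ^ 2, ∃ v ∈ V, a = x * v)
    (hx : x ∈ V) {v : B} (hv : v ∈ V) (h0 : v * x = 0) : v = 0 := by
  have h4 := h.four
  apply h.nd 1 (by omega) v (by rwa [pow_one])
  intro c hc
  obtain ⟨w, hw, rfl⟩ := pow_succ_eq hP hx (m - 2) c (by
      rwa [show m - 2 + 1 = m - 1 by omega])
  obtain ⟨k, hk⟩ : ∃ k, m - 2 = k + 1 := ⟨m - 3, by omega⟩
  rw [hk, pow_succ', ← mul_assoc, ← mul_assoc, h0, zero_mul, zero_mul, map_zero]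

end Cfsg.Agent.H591.Five
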